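import Cfsg.Agent.ThreePrime89.Solv
import Cfsg.Agent.ThreePrime20.Homogeneous
import Cfsg.Agent.Suz27.SimpleCase

/-!
# Simple groups of order prime to three: forms used by the statements
-/

set_option autoImplicit false

namespace Cfsg.Agent.ThreePrime72

universe u

/-- The order form of S0336. -/
theorem s0336_of (h : ThreePrime89.SimpleThree.{u}) {G : Type u} [Group G] [Finite G]
    [IsSimpleGroup G] (hG : ∃ a b : G, a * b ≠ b * a) (h3 : ¬ 3 ∣ Nat.card G) :
    Cfsg.IsSuzuki G :=
  Suz27.isSuzuki_of_iso (h G hG h3)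

/-- The form used for S4045. -/
theorem simpleThreePrime_of (h : ThreePrime89.SimpleThree.{u}) :
    ThreePrime20.SimpleThreePrime.{u} := by
  intro S _ _ hS hnc h3
  refine h S ?_ h3
  by_contra! hc
  exact hnc ⟨⟨hc⟩⟩

end Cfsg.Agent.ThreePrime72
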