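import Cfsg.Agent.ThreePrime72.Quot

/-!
# Simple groups of order prime to three: offenders and the quotient by the odd core
-/

set_option autoImplicit false
set_option linter.style.haveILetI false

namespace Cfsg.Agent.ThreePrime72

open Subgroup

universe u

variable {G : Type u} [Group G] [Finite G]

omit [Finite G] in
theorem card_eq_map_mul {H : Type u} [Group H] (f : G →* H) (K : Subgroup G) :
    Nat.card ↥K = Nat.card ↥(K.map f) * Nat.card ↥(K ⊓ f.ker) := by
  set g := f.comp K.subtype with hg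
  rw [card_eq_card_quotient_mul_card_subgroup g.ker,
    Nat.card_congr (QuotientGroup.quotientKerEquivRange g).toEquiv]
  congr 1
  · rw [hg, MonoidHom.range_comp, range_subtype]
  · rw [← Nat.card_congr (subgroupOfEquivOfLe (inf_le_left : K ⊓ f.ker ≤ K)).toEquiv,
      inf_subgroupOf_left]
    rfl

variable {S : Sylow 2 G} {A : Subgroup G}

/-- Freeness passes to `X / O(X)`. -/
theorem Setup.freeOn_img (h : Setup S A) {X : Subgroup G} (hAX : A ≤ X) :
    FreeOn (img X A) := by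
  intro E' hE'n hE'2 hE'c
  set q := quo X with hqdef
  set E0 : Subgroup ↥X := E'.comap q ⊓ normalizer (A.subgroupOf X : Set ↥X) with hE0
  set E : Subgroup G := E0.map X.subtype with hE
  have hnA : ∀ x ∈ E0, (x : G) ∈ normalizer (A : Set G) := by
    intro x hx
    refine ThreePrime24.mem_normalizer_of_conj_le h.ctl.sc fun a ha => h.ctl.sc.1 ?_
    exact (mem_normalizer_iff.1 hx.2 ⟨a, hAX ha⟩).1 ha
  -- centralizing mod the odd core is centralizing
  have hfix : ∀ x : ↥X, (x : G) ∈ normalizer (A : Set G) → ∀ a : ↥X, (a : G) ∈ A →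
      q x * q a = q a * q x → (x : G) * a = a * x := by
    intro x hx a ha hq
    have h1 : ((x * a * x⁻¹ : ↥X) : G) ∈ A := (mem_normalizer_iff.1 hx _).1 ha
    have h2 : x * a * x⁻¹ = a := h.quo_injOn h1 ha (by
      rw [map_mul, map_mul, map_inv]
      exact mul_inv_eq_iff_eq_mul.2 hq)
    exact congrArg Subtype.val (mul_inv_eq_iff_eq_mul.1 h2)
  have hmap : E0.map q = E' := by
    refine le_antisymm (map_le_iff_le_comap.2 inf_le_left) fun y hy => ?_
    obtain ⟨x, hx, hxy⟩ := h.exists_normalizer_lift' hAX (hE'n hy)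
    refine ⟨x, ⟨?_, mem_normalizer_iff.2 fun z => mem_normalizer_iff.1 hx z⟩, hxy⟩
    show quo X x ∈ E'
    rwa [hxy]
  set C0 : Subgroup ↥X := (centralizer (A : Set G)).subgroupOf X with hC0
  have hC : ∀ x ∈ E0, x ∈ C0 ↔ q x ∈ centralizer (img X A : Set _) := by
    intro x hx
    constructor
    · rintro hc
      refine mem_centralizer_iff.2 ?_
      rintro _ ⟨a, ha, rfl⟩
      rw [← map_mul, ← map_mul]
      exact congrArg q (Subtype.ext (mem_centralizer_iff.1 hc _ ha))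
    · intro hc
      refine mem_centralizer_iff.2 fun a ha => ?_
      exact (hfix x (hnA x hx) ⟨a, hAX ha⟩ ha
        (mem_centralizer_iff.1 hc _ ⟨⟨a, hAX ha⟩, ha, rfl⟩).symm).symm
  have hE2 : ∀ e ∈ E, e * e ∈ centralizer (A : Set G) := by
    rintro _ ⟨x, hx, rfl⟩
    have := (hC (x * x) (mul_mem hx hx)).2 (by
      rw [map_mul]; exact hE'2 _ (hmap ▸ ⟨x, hx, rfl⟩))
    exact this
  have hEc : ¬ E ≤ centralizer (A : Set G) := fun hle => hE'c fun y hy => by
    obtain ⟨x, hx, rfl⟩ := hmap.symm ▸ hy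
    exact (hC x hx).1 (hle ⟨x, hx, rfl⟩)
  have hlt := h.free E (by rintro _ ⟨x, hx, rfl⟩; exact hnA x hx) hE2 hEc
  -- the orders
  set k := Nat.card ↥(E0 ⊓ q.ker) with hk
  have hk0 : 0 < k := Nat.card_pos
  have c1 : Nat.card ↥E = Nat.card ↥E' * k := by
    rw [hE, card_map_of_injective X.subtype_injective, card_eq_map_mul q E0, hmap]
  have c2 : Nat.card ↥(E ⊓ centralizer (A : Set G)) =
      Nat.card ↥(E' ⊓ centralizer (img X A : Set _)) * k := by
    have e1 : E ⊓ centralizer (A : Set G) = (E0 ⊓ C0).map X.subtype := by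
      ext z
      constructor
      · rintro ⟨⟨x, hx, rfl⟩, hz⟩
        exact ⟨x, ⟨hx, hz⟩, rfl⟩
      · rintro ⟨x, ⟨hx, hc⟩, rfl⟩
        exact ⟨⟨x, hx, rfl⟩, hc⟩
    have e2 : (E0 ⊓ C0).map q = E' ⊓ centralizer (img X A : Set _) := by
      ext y
      constructor
      · rintro ⟨x, ⟨hx, hc⟩, rfl⟩
        exact ⟨hmap ▸ ⟨x, hx, rfl⟩, (hC x hx).1 hc⟩
      · rintro ⟨hy, hyc⟩
        obtain ⟨x, hx, rfl⟩ := hmap.symm ▸ hy
        exact ⟨x, ⟨hx, (hC x hx).2 hyc⟩, rfl⟩
    have e3 : E0 ⊓ C0 ⊓ q.ker = E0 ⊓ q.ker := by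
      refine le_antisymm (inf_le_inf_right _ inf_le_left) fun x hx => ⟨⟨hx.1, ?_⟩, hx.2⟩
      refine (hC x hx.1).2 ?_
      rw [show q x = 1 from hx.2]
      exact one_mem _
    rw [e1, card_map_of_injective X.subtype_injective, card_eq_map_mul q (E0 ⊓ C0), e2, e3]
  have c3 : Nat.card ↥(img X A ⊓ centralizer (E' : Set _)) =
      Nat.card ↥(A ⊓ centralizer (E : Set G)) := by
    set A0 : Subgroup ↥X := (A ⊓ centralizer (E : Set G)).subgroupOf X with hA0
    have e2 : A0.map q = img X A ⊓ centralizer (E' : Set _) := by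
      ext y
      constructor
      · rintro ⟨a, ⟨ha, hac⟩, rfl⟩
        refine ⟨⟨a, ha, rfl⟩, mem_centralizer_iff.2 ?_⟩
        rintro w hw
        obtain ⟨x, hx, rfl⟩ := hmap.symm ▸ hw
        rw [← map_mul, ← map_mul]
        exact congrArg q (Subtype.ext (mem_centralizer_iff.1 hac _ ⟨x, hx, rfl⟩))
      · rintro ⟨⟨a, ha, rfl⟩, hac⟩
        refine ⟨a, ⟨ha, mem_centralizer_iff.2 ?_⟩, rfl⟩
        rintro _ ⟨x, hx, rfl⟩
        exact hfix x (hnA x hx) a ha (mem_centralizer_iff.1 hac _ (hmap ▸ ⟨x, hx, rfl⟩))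
    have e3 : A0 ⊓ q.ker = ⊥ := by
      rw [eq_bot_iff]
      rintro x ⟨hx, hxq⟩
      exact mem_bot.2 (h.eq_one_of_quo (mem_inf.1 (mem_subgroupOf.1 hx)).1 hxq)
    have := card_eq_map_mul q A0
    rw [e2, e3, card_bot, mul_one] at this
    rw [← this]
    exact Nat.card_congr (subgroupOfEquivOfLe (inf_le_left.trans hAX)).toEquiv
  rw [c1, c2, mul_right_comm, mul_right_comm (Nat.card ↥(E' ⊓ centralizer (img X A : Set _))) k,
    ← c3] at hlt
  have hA : Nat.card ↥(img X A) = Nat.card ↥A := by rw [h.card_img, inf_eq_left.2 hAX]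
  rw [hA]
  exact Nat.lt_of_mul_lt_mul_right hlt

end Cfsg.Agent.ThreePrime72
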