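import Cfsg.Agent.ThreePrime72.Assembly
import Cfsg.Agent.ThreePrime24.Proper
import Cfsg.Agent.ThreePrime56.Blocks
import Cfsg.Agent.ThreePrime73.NormEq

/-!
# Simple groups of order prime to three are Suzuki groups
-/

set_option autoImplicit false

namespace Cfsg.Agent.ThreePrime72

universe u

/-- Nonabelian simple groups of order prime to three are Suzuki groups. -/
theorem simpleThree : ThreePrime89.SimpleThree.{u} :=
  simpleThree_of_remaining (ThreePrime24.properCore ThreePrime82.ksec functor)
    (ThreePrime56.properBlocks ThreePrime82.ksec)
    (ThreePrime73.normEq ThreePrime82.ksec functor xData' badLocal' ThreePrime20.Points.middle)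

end Cfsg.Agent.ThreePrime72
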