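import Cfsg.Agent.ThreePrime72.Defs
import Cfsg.Agent.ThreePrime89.Closing

/-!
# Simple groups of order prime to three: the induction
-/

set_option autoImplicit false

namespace Cfsg.Agent.ThreePrime72

universe u

/-- The induction on the order. -/
theorem final : FinalStmt.{u} := by
  intro h G _ _ _ hnc h3
  suffices key : ∀ (n : ℕ) (K : Type u) [Group K] [Finite K] [IsSimpleGroup K], Nat.card K = n →
      (∃ a b : K, a * b ≠ b * a) → ¬ 3 ∣ Nat.card K → Cfsg.Lie.IsoSuzuki K from
    key _ G rfl hnc h3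
  intro n
  induction n using Nat.strong_induction_on with
  | _ n ih =>
    intro K _ _ hK hn hnc h3
    obtain ⟨H, hH⟩ := h K ⟨hK, hnc, h3, fun L _ _ _ hlt hL hL3 =>
      ih _ (hn ▸ hlt) L rfl hL hL3⟩
    exact ThreePrime89.isoSuzuki_of_se hH h3

end Cfsg.Agent.ThreePrime72
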