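import Cfsg.Agent.ThreePrime72.Quot
import Cfsg.Agent.ThreePrime82.Balance
import Cfsg.Agent.PN72.Exists
import Cfsg.Agent.S0205

/-!
# Simple groups of order prime to three: the signalizer functor
-/

set_option autoImplicit false
set_option linter.style.haveILetI false

namespace Cfsg.Agent.ThreePrime72

open Subgroup

universe u

/-- The cores of the centralizers of involutions form a signalizer functor. -/
theorem functor : FunctorStmt.{u} := by
  intro G _ _ hG E hE h8
  haveI : Fact (Nat.Prime 2) := ⟨Nat.prime_two⟩
  have hord : ∀ e ∈ E, e ≠ 1 → orderOf e = 2 := fun e he h1 => PN72.orderOf_two_of_mem hE he h1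
  have hbal : Cfsg.IsBalanced G := by
    refine ThreePrime82.isBalanced (fun Q _ _ _ hna h3 hlt => hG.ind Q hlt hna h3) hG.three
      fun x hx hc => hG.centralizer_ne_top (x := x) (fun h => by simp [h] at hx) ?_
    exact eq_top_iff.2 fun g _ => mem_centralizer_singleton_iff.2 (mem_center_iff.1 hc g)
  have hodd : ∀ e : G, ¬ 2 ∣ Nat.card ↥(th e) := fun e => by
    rw [th, Cfsg.centralizerPPrimeCore, card_map_of_injective (Subgroup.subtype_injective _)]
    exact Thompson.not_dvd_card_pPrimeCore (hp := ⟨Nat.prime_two⟩)
  refine S0217.result E (fun a ha b hb => PN72.elem_comm hE ha hb) hE.2 (by norm_num; omega)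
    (fun a => th a) (fun a _ _ => map_subtype_le _) (fun a _ _ => hodd a)
    (fun a ha ha1 b hb x hx => ?_) (fun a _ _ => ?_) (fun a ha ha1 b hb hb1 => ?_)
  · have hba : b ∈ centralizer ({a} : Set G) :=
      mem_centralizer_singleton_iff.2 (PN72.elem_comm hE hb ha)
    exact (mem_normalizer_iff.1 (le_normalizer_oddOf (centralizer ({a} : Set G)) hba) x).1 hx
  · exact S0205.result (Nat.odd_iff.2 (by have := hodd a; omega))
  · rw [hbal a b (hord a ha ha1) (hord b hb hb1) (PN72.elem_comm hE ha hb)]
    exact inf_le_left

end Cfsg.Agent.ThreePrime72
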