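import Cfsg.Agent.ThreePrime72.Quot
import Cfsg.Agent.PN72.Exists

/-!
# Simple groups of order prime to three: the subgroup generated by the cores
-/

set_option autoImplicit false
set_option linter.style.haveILetI false

namespace Cfsg.Agent.ThreePrime72

open Subgroup

universe u

variable {G : Type u} [Group G] [Finite G]

theorem th_le_W {E : Subgroup G} {e : G} (he : e ∈ E) (he1 : e ≠ 1) : th e ≤ W E :=
  le_iSup (fun a : {a : G // a ∈ E ∧ a ≠ 1} => th (a : G)) ⟨e, he, he1⟩

theorem W_mono {E E' : Subgroup G} (h : E ≤ E') : W E ≤ W E' :=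
  iSup_le fun a => th_le_W (h a.2.1) a.2.2

/-- The normalizer of `E` normalizes `W E`. -/
theorem normalizer_le_W (E : Subgroup G) :
    normalizer (E : Set G) ≤ normalizer ((W E : Subgroup G) : Set G) := by
  intro x hx
  have key : ∀ y ∈ normalizer (E : Set G), (W E).map (MulAut.conj y).toMonoidHom ≤ W E := by
    intro y hy
    rw [Subgroup.map_iSup]
    refine iSup_le fun a => ?_
    rw [PN72.conj_th]
    exact th_le_W ((mem_normalizer_iff.1 hy _).1 a.2.1) fun h => a.2.2 (conj_eq_one_iff.1 h)
  exact S4Free.cj_eq_self.1 (eq_of_le_of_card_ge (key x hx) S4Free.card_cj.ge)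

variable {S : Sylow 2 G} {A M : Subgroup G}

theorem Big.W_le (hM : Big S A M) : W A ≤ M :=
  iSup_le fun a => (map_subtype_le _).trans (hM.cle a a.2.1 a.2.2)

/-- `W A` is odd and meets the centralizers of the elements of `A` in their cores. -/
theorem Setup.W_spec (hF : FunctorStmt.{u}) (hG : Min G) (h : Setup S A) :
    ¬ 2 ∣ Nat.card ↥(W A) ∧ ∀ a ∈ A, a ≠ 1 → W A ⊓ centralizer ({a} : Set G) = th a :=
  hF G hG A h.elem h.big

/-- An involution centralizing `A` has its core in `W A`, equal to its centralizer there. -/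
theorem Setup.W_inf_centralizer (hF : FunctorStmt.{u}) (hG : Min G) (h : Setup S A) {t : G}
    (ht1 : t ≠ 1) (ht2 : t * t = 1) (hAt : A ≤ centralizer ({t} : Set G)) :
    th t ≤ W A ∧ W A ⊓ centralizer ({t} : Set G) = th t := by
  set E := closure (insert t (A : Set G)) with hE
  have hgen : ∀ u ∈ insert t (A : Set G), ∀ v ∈ insert t (A : Set G), u * v = v * u := by
    intro u hu v hv
    rcases hu with rfl | hu <;> rcases hv with rfl | hv
    · rfl
    · exact (mem_centralizer_singleton_iff.1 (hAt hv)).symm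
    · exact mem_centralizer_singleton_iff.1 (hAt hu)
    · exact PN72.elem_comm h.elem hu hv
  haveI hcomm := isMulCommutative_closure hgen
  have hEel : Cfsg.IsElementaryAbelian 2 E := by
    refine ⟨hcomm, fun w hw => ?_⟩
    rw [pow_two]
    refine closure_induction (p := fun z _ => z * z = 1) ?_ (mul_one 1) ?_ ?_ hw
    · rintro z (rfl | hz)
      · exact ht2
      · exact h.sq hz
    · intro u v hu hv hu2 hv2
      have hc : Commute u v := congrArg Subtype.val (mul_comm' (⟨u, hu⟩ : ↥E) ⟨v, hv⟩)
      rw [mul_assoc, ← mul_assoc v u v, ← hc.eq, mul_assoc u v v, hv2, mul_one, hu2]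
    · intro u _ hu2
      rw [← mul_inv_rev, hu2, inv_one]
  have hAE : A ≤ E := fun a ha => subset_closure (Or.inr ha)
  have htE : t ∈ E := subset_closure (Or.inl rfl)
  obtain ⟨hodd, hθ⟩ := hF G hG E hEel (h.big.trans (card_le_of_le hAE))
  have hAn : A ≤ normalizer ((W E : Subgroup G) : Set G) :=
    hAE.trans (le_normalizer.trans (normalizer_le_W E))
  have heq : W E = W A := by
    refine le_antisymm (PN72.le_of_gen h.elem (by have := h.big; omega) hAn hodd
      fun b hb hb1 => ?_) (W_mono hAE)
    rw [hθ b (hAE hb) hb1]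
    exact th_le_W hb hb1
  exact ⟨heq ▸ th_le_W htE ht1, by rw [← heq]; exact hθ t htE ht1⟩

end Cfsg.Agent.ThreePrime72
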