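import Cfsg.Agent.ThreePrime72.Main
import Cfsg.Agent.ThreePrime72.Final
import Cfsg.Agent.ThreePrime72.Functor
import Cfsg.Agent.ThreePrime96.Setup
import Cfsg.Agent.ThreePrime20.Points
import Cfsg.Agent.ThreePrime36.XData
import Cfsg.Agent.ThreePrime10.BadLocal
import Cfsg.Agent.ThreePrime73.WComm
import Cfsg.Agent.ThreePrime74.SzLine
import Cfsg.Agent.ThreePrime82.Free

/-!
# Simple groups of order prime to three: assembly of the proved pieces
-/

set_option autoImplicit false

namespace Cfsg.Agent.ThreePrime72

universe u

theorem xMoved' : XMovedStmt.{u} := ThreePrime36.xMoved ThreePrime82.ksec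

theorem xData' : XDataStmt.{u} := ThreePrime36.xData ThreePrime82.ksec

theorem badLocal' : BadLocalStmt.{u} := ThreePrime10.badLocal xMoved' ThreePrime20.Points.fixTrans

theorem wComm' : WCommStmt.{u} :=
  ThreePrime73.wComm functor xData' ThreePrime20.Points.fixTrans badLocal'

theorem glue' : GlueStmt.{u} := ThreePrime74.glue xData' ThreePrime20.Points.fixTrans badLocal'

/-- The recognition from the three remaining pieces. -/
theorem simpleThree_of_remaining (hcore : ProperCoreStmt.{u}) (hblk : ProperBlocksStmt.{u})
    (hN : NormEqStmt.{u}) : ThreePrime89.SimpleThree.{u} :=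
  simpleThree_of final ThreePrime96.setup hcore hblk ThreePrime20.Points.fixTrans badLocal' wComm'
    hN glue'

end Cfsg.Agent.ThreePrime72
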