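import Cfsg.Prelude.Def_Sz
import Cfsg.Prelude.Def_Balance
import Cfsg.Prelude.Def_Involutions
import Cfsg.Prelude.Def_Local
import Cfsg.Prelude.Def_TwoFusion
import Cfsg.Agent.ThreePrime24.Local
import Cfsg.Agent.ThreePrime74.Coset

/-!
# Simple groups of order prime to three: interfaces of the pieces

Every `...Stmt` is the statement of one piece; it is proved as a theorem of that type in its own
file and composed in `ThreePrime72/Main.lean`.
-/

set_option autoImplicit false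

namespace Cfsg.Agent.ThreePrime72

open Subgroup

universe u

/-- All nonabelian simple sections are Suzuki groups. -/
def SzSections (H : Type u) [Group H] : Prop :=
  ∀ (K : Subgroup H) (N : Subgroup ↥K) [N.Normal], IsSimpleGroup (↥K ⧸ N) →
    (∃ a b : ↥K ⧸ N, a * b ≠ b * a) → Cfsg.Lie.IsoSuzuki (↥K ⧸ N)

/-- A minimal counterexample to the recognition of the Suzuki groups. -/
structure Min (G : Type u) [Group G] [Finite G] : Prop where
  simple : IsSimpleGroup G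
  nc : ∃ a b : G, a * b ≠ b * a
  three : ¬ 3 ∣ Nat.card G
  ind : ∀ (K : Type u) [Group K] [Finite K] [IsSimpleGroup K], Nat.card K < Nat.card G →
    (∃ a b : K, a * b ≠ b * a) → ¬ 3 ∣ Nat.card K → Cfsg.Lie.IsoSuzuki K

section

variable {G : Type u} [Group G]

/-- `O(C(a))`. -/
abbrev th (a : G) : Subgroup G := Cfsg.centralizerPPrimeCore 2 a

/-- The subgroup generated by the `O(C(a))`, `a ∈ E#`. -/
abbrev W (E : Subgroup G) : Subgroup G := ⨆ a : {a : G // a ∈ E ∧ a ≠ 1}, th (a : G)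

/-- `O(X)` as a subgroup of `G`. -/
abbrev oddOf (X : Subgroup G) : Subgroup G := (Cfsg.pPrimeCore 2 ↥X).map X.subtype

/-- The normalizer of `A` has no offenders on `A`. -/
def FreeOn (A : Subgroup G) : Prop :=
  ∀ E : Subgroup G, E ≤ normalizer (A : Set G) → (∀ e ∈ E, e * e ∈ centralizer (A : Set G)) →
    ¬ E ≤ centralizer (A : Set G) →
    Nat.card ↥E * Nat.card ↥(A ⊓ centralizer (E : Set G)) <
      Nat.card ↥(E ⊓ centralizer (A : Set G)) * Nat.card ↥A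

/-- `U` consists of `1` and the involutions of a Sylow 2-subgroup of the Suzuki group `L`. -/
def IsSzU (L : Type u) [Group L] (U : Subgroup L) : Prop :=
  Cfsg.Lie.IsoSuzuki L ∧
    ∃ P : Sylow 2 L, ∀ x : L, x ∈ U ↔ x ∈ (P : Subgroup L) ∧ x * x = 1

/-- A component not centralized by `A`. -/
def Moved (A L : Subgroup G) : Prop :=
  Cfsg.IsComponent L ∧ ¬ A ≤ centralizer (L : Set G)

end

section

variable {G : Type u} [Group G] [Finite G]

/-- The strongly closed subgroup. -/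
structure Setup (S : Sylow 2 G) (A : Subgroup G) : Prop where
  ctl : ThreePrime24.Control S A
  elem : Cfsg.IsElementaryAbelian 2 A
  big : 8 ≤ Nat.card ↥A
  irr : ∀ C : Subgroup G, C ≤ A → normalizer (A : Set G) ≤ normalizer (C : Set G) → C = ⊥ ∨ C = A
  free : FreeOn A

/-- A proper subgroup containing the normalizer and the centralizers of the elements of `A`. -/
structure Big (S : Sylow 2 G) (A M : Subgroup G) : Prop extends Setup S A where
  proper : M ≠ ⊤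
  nle : normalizer (A : Set G) ≤ M
  cle : ∀ a ∈ A, a ≠ 1 → centralizer ({a} : Set G) ≤ M
  wn : M ≤ normalizer ((W A : Subgroup G) : Set G)

/-- The Suzuki layer `K` of a subgroup `X` containing `A` but not inside `M`. -/
structure XData (A X K : Subgroup G) : Prop where
  le : K ≤ X
  normal : X ≤ normalizer (K : Set G)
  decomp : ∀ x ∈ X, ∃ k ∈ K, ∃ n ∈ normalizer (A : Set G), n ∈ X ∧ x = k * n
  A_le : A ≤ K
  suz : ∃ (L : Type u) (_ : Group L) (f : ↥K →* L), Function.Surjective f ∧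
    f.ker.map K.subtype = oddOf X ∧ IsSzU L ((A.subgroupOf K).map f)

end

/-- An abstract group with trivial core and a strongly closed elementary abelian `A`. -/
structure KHyp {H : Type u} [Group H] [Finite H] (T : Sylow 2 H) (A : Subgroup H) : Prop where
  sec : SzSections H
  three : ¬ 3 ∣ Nat.card H
  core : Cfsg.pPrimeCore 2 H = ⊥
  elem : Cfsg.IsElementaryAbelian 2 A
  sc : Cfsg.IsStronglyClosed A (T : Subgroup H)

/-! ## The pieces -/

/-- Piece KSec: the structure around the moved components. -/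
def KSecStmt : Prop :=
  ∀ (H : Type u) [Group H] [Finite H] (T : Sylow 2 H) (A : Subgroup H), KHyp T A →
    (∀ L : Subgroup H, Moved A L → A ≤ normalizer (L : Set H)) ∧
    closure ((normalizer (A : Set H) : Set H) ∪ ⋃ L ∈ {L : Subgroup H | Moved A L}, (L : Set H)) = ⊤ ∧
    (∀ Y : Subgroup H, Odd (Nat.card ↥Y) → A ≤ normalizer (Y : Set H) →
      A ≤ centralizer (Y : Set H)) ∧
    ∀ L : Subgroup H, Moved A L → ∃ U : Subgroup H, ∃ n : ℕ, U ≤ A ⊓ L ∧
      Odd n ∧ 3 ≤ n ∧ Nat.card ↥U = 2 ^ n ∧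
      U ⊓ (A ⊓ centralizer (L : Set H)) = ⊥ ∧ U ⊔ (A ⊓ centralizer (L : Set H)) = A ∧
      IsSzU (↥L ⧸ center ↥L) ((U.subgroupOf L).map (QuotientGroup.mk' (center ↥L))) ∧
      (∀ x ∈ U, x ≠ 1 → ∀ y ∈ U, y ≠ 1 →
        ∃ g ∈ L, g ∈ normalizer (A : Set H) ∧ g ∈ normalizer (U : Set H) ∧ g * x * g⁻¹ = y) ∧
      (FreeOn A → center ↥L = ⊥ ∧
        ∀ p ∈ L, p ∈ (T : Subgroup H) → p ∈ centralizer (A : Set H))

/-- Piece Functor. -/
def FunctorStmt : Prop :=
  ∀ (G : Type u) [Group G] [Finite G], Min G → ∀ E : Subgroup G, Cfsg.IsElementaryAbelian 2 E →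
    8 ≤ Nat.card ↥E →
      ¬ 2 ∣ Nat.card ↥(W E) ∧ ∀ e ∈ E, e ≠ 1 → W E ⊓ centralizer ({e} : Set G) = th e

/-- Piece Final. -/
def FinalStmt : Prop :=
  (∀ (G : Type u) [Group G] [Finite G], Min G → ∃ H : Subgroup G, Cfsg.IsStronglyEmbedded H) →
    ∀ (G : Type u) [Group G] [Finite G] [IsSimpleGroup G], (∃ a b : G, a * b ≠ b * a) →
      ¬ 3 ∣ Nat.card G → Cfsg.Lie.IsoSuzuki G

/-- Piece Setup. -/
def SetupStmt : Prop :=
  ∀ (G : Type u) [Group G] [Finite G], Min G →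
    ∃ (S : Sylow 2 G) (A : Subgroup G), Setup S A

/-- The fixed part beside an orbit `U#` has order at least four. -/
def FourLeStmt : Prop :=
  ∀ (G : Type u) [Group G] [Finite G], Min G → ∀ (S : Sylow 2 G) (A U B : Subgroup G), Setup S A →
    U ≤ A → B ≤ A → U ⊓ B = ⊥ → U ⊔ B = A → B ≠ ⊥ →
    (∃ n : ℕ, Odd n ∧ 3 ≤ n ∧ Nat.card ↥U = 2 ^ n) →
    (∀ x ∈ U, x ≠ 1 → ∀ y ∈ U, y ≠ 1 → ∃ g ∈ normalizer (A : Set G),
      (∀ b ∈ B, g * b = b * g) ∧ g * x * g⁻¹ = y) →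
    4 ≤ Nat.card ↥B

/-- Piece ProperM, nontrivial core. -/
def ProperCoreStmt : Prop :=
  ∀ (G : Type u) [Group G] [Finite G], Min G → ∀ (S : Sylow 2 G) (A : Subgroup G), Setup S A →
    W A ≠ ⊥ → ∃ M : Subgroup G, Big S A M

/-- Piece ProperM, trivial cores. -/
def ProperBlocksStmt : Prop :=
  ∀ (G : Type u) [Group G] [Finite G], Min G → ∀ (S : Sylow 2 G) (A : Subgroup G), Setup S A →
    W A = ⊥ → ∃ M : Subgroup G, Big S A M

open ThreePrime74 in
/-- Piece Points: the centralizer of an involution is transitive on its fixed points. -/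
def FixTransStmt : Prop :=
  ∀ (G : Type u) [Group G] [Finite G], Min G → ∀ (S : Sylow 2 G) (A M : Subgroup G), Big S A M →
    (∀ (t : G), t ≠ 1 → t * t = 1 → ∀ c d : G ⧸ M, t • c = c → t • d = d →
      ∃ g : G, g * t = t * g ∧ g • c = d) ∧
    (∀ a ∈ A, a ≠ 1 → ∀ c : G ⧸ M, a • c = c → c = ((1 : G) : G ⧸ M)) ∧
    (∀ t : G, t ≠ 1 → ∃ b : G ⧸ M, t • b ≠ b) ∧
    (∃ e : ℕ, Odd e ∧ 3 ≤ e ∧ Nat.card ↥A = 2 ^ e) ∧
    ((∀ t : G, ¬ BadInv (G ⧸ M) t) → Cfsg.IsStronglyEmbedded M)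

open ThreePrime74 in
/-- Piece Points: every point is covered by a line through the centres on the line of `t`. -/
def MiddleStmt : Prop :=
  ∀ (G : Type u) [Group G] [Finite G], Min G → ∀ (S : Sylow 2 G) (A M : Subgroup G), Big S A M →
    ∀ t : G, BadInv (G ⧸ M) t → A ≤ centralizer ({t} : Set G) →
    (∀ b : G ⧸ M, t • b ≠ b → ∃ g : G, g * t = t * g ∧ ∃ w ∈ A, w ≠ 1 ∧
      (g * (t * w) * g⁻¹) • b = b) ∧
    ((∀ t' : G, BadInv (G ⧸ M) t' → A ≤ centralizer ({t'} : Set G) →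
        ∀ x ∈ A, x ≠ 1 → ∀ y ∈ A, y ≠ 1 → ∃ g ∈ normalizer (A : Set G),
          g * t' = t' * g ∧ g * x * g⁻¹ = y) →
      ∀ w ∈ A, w ≠ 1 → BadInv (G ⧸ M) (t * w) ∧ IsConj t (t * w))

/-- Piece XMoved: the orbit on `A ⊓ X`. -/
def XMovedStmt : Prop :=
  ∀ (G : Type u) [Group G] [Finite G], Min G → ∀ (S : Sylow 2 G) (A M : Subgroup G), Big S A M →
    ∀ X : Subgroup G, X ≠ ⊤ → ¬ X ≤ M → 4 ≤ Nat.card ↥(A ⊓ X) →
    (∃ T : Sylow 2 ↥X, (T : Subgroup ↥X).map X.subtype ≤ normalizer (A : Set G) ∧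
      A ⊓ X ≤ (T : Subgroup ↥X).map X.subtype) →
    (∃ k : ℕ, Odd k ∧ Nat.card ↥(A ⊓ X) = 2 ^ k) ∧
    ∀ x ∈ A ⊓ X, x ≠ 1 → ∀ y ∈ A ⊓ X, y ≠ 1 →
      ∃ g ∈ X, g ∈ normalizer ((A ⊓ X : Subgroup G) : Set G) ∧ g * x * g⁻¹ = y

/-- Piece XData. -/
def XDataStmt : Prop :=
  ∀ (G : Type u) [Group G] [Finite G], Min G → ∀ (S : Sylow 2 G) (A M : Subgroup G), Big S A M →
    ∀ X : Subgroup G, A ≤ X → X ≠ ⊤ → ¬ X ≤ M → ∃ K : Subgroup G, XData A X K

open ThreePrime74 in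
/-- Piece BadLocal. -/
def BadLocalStmt : Prop :=
  ∀ (G : Type u) [Group G] [Finite G], Min G → ∀ (S : Sylow 2 G) (A M : Subgroup G), Big S A M →
    (∀ t : G, BadInv (G ⧸ M) t → A ≤ centralizer ({t} : Set G) →
      t ∈ M ∧ ¬ centralizer ({t} : Set G) ≤ M ∧
      ∀ x ∈ A, x ≠ 1 → ∀ y ∈ A, y ≠ 1 → ∃ g ∈ normalizer (A : Set G),
        g * t = t * g ∧ g * x * g⁻¹ = y) ∧
    ∀ t : G, BadInv (G ⧸ M) t → t ∈ M → ∃ m ∈ M, A ≤ centralizer ({m * t * m⁻¹} : Set G)

open ThreePrime74 in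
/-- Piece WComm: a bad involution forces `A` to centralize `W A`. -/
def WCommStmt : Prop :=
  ∀ (G : Type u) [Group G] [Finite G], Min G → ∀ (S : Sylow 2 G) (A M : Subgroup G), Big S A M →
    ∀ t : G, BadInv (G ⧸ M) t → A ≤ centralizer ({t} : Set G) →
      A ≤ centralizer ((W A : Subgroup G) : Set G)

open ThreePrime74 in
/-- Piece NormEq. -/
def NormEqStmt : Prop :=
  ∀ (G : Type u) [Group G] [Finite G], Min G → ∀ (S : Sylow 2 G) (A M : Subgroup G), Big S A M →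
    ∀ t : G, BadInv (G ⧸ M) t → A ≤ centralizer ({t} : Set G) →
      A ≤ centralizer ((W A : Subgroup G) : Set G) → M = normalizer (A : Set G)

open ThreePrime74 in
/-- Piece Glue. -/
def GlueStmt : Prop :=
  ∀ (G : Type u) [Group G] [Finite G], Min G → ∀ (S : Sylow 2 G) (A M : Subgroup G), Big S A M →
    M = normalizer (A : Set G) → ∀ t : G, ¬ BadInv (G ⧸ M) t

end Cfsg.Agent.ThreePrime72
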