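import Cfsg.Agent.ThreePrime72.Defs
import Cfsg.Agent.ThreePrime89.Solv

/-!
# Simple groups of order prime to three: composition of the pieces
-/

set_option autoImplicit false

namespace Cfsg.Agent.ThreePrime72

open Subgroup ThreePrime74

universe u

/-- The strongly embedded subgroup of a minimal counterexample. -/
theorem exists_stronglyEmbedded_of (hset : SetupStmt.{u}) (hcore : ProperCoreStmt.{u})
    (hblk : ProperBlocksStmt.{u}) (hfix : FixTransStmt.{u}) (hloc : BadLocalStmt.{u})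
    (hW : WCommStmt.{u}) (hN : NormEqStmt.{u}) (hglue : GlueStmt.{u})
    {G : Type u} [Group G] [Finite G] (hG : Min G) :
    ∃ H : Subgroup G, Cfsg.IsStronglyEmbedded H := by
  obtain ⟨S, A, hS⟩ := hset G hG
  obtain ⟨M, hM⟩ : ∃ M : Subgroup G, Big S A M := by
    by_cases h : W A = ⊥
    · exact hblk G hG S A hS h
    · exact hcore G hG S A hS h
  obtain ⟨htr, hone, hmov, hcard, hse⟩ := hfix G hG S A M hM
  refine ⟨M, hse fun t ht => ?_⟩
  obtain ⟨-, -, c, d, -, hc, -⟩ := id ht
  obtain ⟨g, rfl⟩ := QuotientGroup.mk_surjective c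
  have hg : g⁻¹ * t * g ∈ M := by
    have h := hc
    rw [MulAction.Quotient.smul_mk, QuotientGroup.eq] at h
    have h2 := inv_mem h
    rwa [show ((t • g)⁻¹ * g)⁻¹ = g⁻¹ * t * g by simp [mul_assoc, smul_eq_mul]] at h2
  have ht1 : BadInv (G ⧸ M) (g⁻¹ * t * g) := by simpa using ht.conj g⁻¹
  obtain ⟨hloc1, hloc2⟩ := hloc G hG S A M hM
  obtain ⟨m, hm, hmA⟩ := hloc2 _ ht1 hg
  exact hglue G hG S A M hM
    (hN G hG S A M hM _ (ht1.conj m) hmA (hW G hG S A M hM _ (ht1.conj m) hmA)) t ht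

/-- The recognition of the Suzuki groups from the pieces. -/
theorem simpleThree_of (hfin : FinalStmt.{u}) (hset : SetupStmt.{u}) (hcore : ProperCoreStmt.{u})
    (hblk : ProperBlocksStmt.{u}) (hfix : FixTransStmt.{u}) (hloc : BadLocalStmt.{u})
    (hW : WCommStmt.{u}) (hN : NormEqStmt.{u}) (hglue : GlueStmt.{u}) :
    ThreePrime89.SimpleThree.{u} :=
  hfin fun _ _ _ hG => exists_stronglyEmbedded_of hset hcore hblk hfix hloc hW hN hglue hG

end Cfsg.Agent.ThreePrime72
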