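import Cfsg.Agent.ThreePrime72.Defs
import Cfsg.Agent.PLocalB.PConstrained
import Cfsg.Agent.PN72.Strong

/-!
# Simple groups of order prime to three: passage to `X / O(X)`
-/

set_option autoImplicit false
set_option linter.style.haveILetI false

namespace Cfsg.Agent.ThreePrime72

open Subgroup

universe u

variable {G : Type u} [Group G]

/-- The quotient by the odd core. -/
abbrev quo (X : Subgroup G) : ↥X →* ↥X ⧸ Cfsg.pPrimeCore 2 ↥X :=
  QuotientGroup.mk' (Cfsg.pPrimeCore 2 ↥X)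

/-- The image of `A ⊓ X` in `X / O(X)`. -/
abbrev img (X A : Subgroup G) : Subgroup (↥X ⧸ Cfsg.pPrimeCore 2 ↥X) :=
  (A.subgroupOf X).map (quo X)

theorem th_eq_oddOf (a : G) : th a = oddOf (centralizer ({a} : Set G)) := rfl

theorem mem_oddOf {X : Subgroup G} {x : ↥X} :
    (x : G) ∈ oddOf X ↔ x ∈ Cfsg.pPrimeCore 2 ↥X := by
  constructor
  · rintro ⟨y, hy, hyx⟩
    rwa [← Subtype.ext hyx]
  · exact fun h => ⟨x, h, rfl⟩

theorem oddOf_le (X : Subgroup G) : oddOf X ≤ X := map_subtype_le _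

theorem le_normalizer_oddOf (X : Subgroup G) : X ≤ normalizer (oddOf X : Set G) :=
  normal_subgroupOf_iff_le_normalizer (oddOf_le X) |>.1 (by
    rw [subgroupOf, comap_map_eq_self_of_injective X.subtype_injective]
    infer_instance)

/-- Two involutions with product of odd order are conjugate by a power of the product. -/
theorem exists_conj_of_odd {u v : G} (hu : u * u = 1) (hv : v * v = 1)
    (h : Odd (orderOf (u * v))) : ∃ m : ℕ, (u * v) ^ m * u * ((u * v) ^ m)⁻¹ = v := by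
  obtain ⟨m, hm⟩ := h
  have hui : u⁻¹ = u := inv_eq_of_mul_eq_one_right hu
  have hvi : v⁻¹ = v := inv_eq_of_mul_eq_one_right hv
  have hflip : ∀ i : ℕ, u * (u * v) ^ i = ((u * v) ^ i)⁻¹ * u := by
    intro i
    induction i with
    | zero => simp
    | succ i ih =>
      rw [pow_succ, ← mul_assoc, ih, ← pow_succ, pow_succ', mul_inv_rev, mul_inv_rev, hui, hvi]
      simp only [mul_assoc]
      rw [← mul_assoc u u, hu, one_mul, mul_one]
  refine ⟨m, ?_⟩
  have h1 : (u * v) ^ (2 * m + 1) = 1 := hm ▸ pow_orderOf_eq_one (u * v)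
  have h2 : (u * v) ^ (2 * m) = (u * v)⁻¹ := eq_inv_of_mul_eq_one_left (by rw [← pow_succ, h1])
  calc (u * v) ^ m * u * ((u * v) ^ m)⁻¹
      = (u * v) ^ m * (u * ((u * v) ^ m)⁻¹) := by rw [mul_assoc]
    _ = (u * v) ^ m * ((u * v) ^ m * u) := by
        rw [show u * ((u * v) ^ m)⁻¹ = u * (((u * v) ^ m)⁻¹ * u) * u by simp [mul_assoc, hu],
          ← hflip m, ← mul_assoc u u, hu, one_mul]
    _ = (u * v) ^ (2 * m) * u := by rw [← mul_assoc, ← pow_add, two_mul]
    _ = v := by rw [h2, mul_inv_rev, hui, hvi, mul_assoc, hu, mul_one]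

variable [Finite G]

theorem Min.centralizer_ne_top (hG : Min G) {x : G} (hx : x ≠ 1) :
    centralizer ({x} : Set G) ≠ ⊤ := by
  intro h
  haveI := hG.simple
  have hc : x ∈ center G := mem_center_iff.2 fun g =>
    (mem_centralizer_singleton_iff.1 (show g ∈ centralizer ({x} : Set G) from h ▸ mem_top g))
  rcases (inferInstance : (center G).Normal).eq_bot_or_eq_top with e | e
  · exact hx (mem_bot.1 (e ▸ hc))
  · obtain ⟨a, b, hab⟩ := hG.nc
    exact hab ((mem_center_iff.1 (e ▸ mem_top a : a ∈ center G) b).symm)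

theorem Min.normalizer_ne_top (hG : Min G) {K : Subgroup G} (h1 : K ≠ ⊥) (h2 : K ≠ ⊤) :
    normalizer (K : Set G) ≠ ⊤ := by
  intro h
  haveI := hG.simple
  exact ((normalizer_eq_top_iff.1 h).eq_bot_or_eq_top).elim h1 h2

/-- Sections of proper subgroups have only Suzuki groups as nonabelian simple sections. -/
theorem Min.szSections (hG : Min G) {X : Subgroup G} (hX : X ≠ ⊤) (N : Subgroup ↥X) [N.Normal] :
    SzSections (↥X ⧸ N) := by
  intro K N' _ hs hnc
  haveI := hs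
  have h1 : Nat.card (↥K ⧸ N') ∣ Nat.card ↥X :=
    ((card_quotient_dvd_card N').trans (card_subgroup_dvd_card K)).trans (card_quotient_dvd_card N)
  refine hG.ind _ (lt_of_le_of_lt (Nat.le_of_dvd Nat.card_pos h1) ?_) hnc
    fun h => hG.three ((h.trans h1).trans (card_subgroup_dvd_card X))
  exact lt_of_le_of_ne (Nat.le_of_dvd Nat.card_pos (card_subgroup_dvd_card X))
    fun e => hX (eq_top_of_card_eq X e)

theorem Min.three_quot (hG : Min G) (X : Subgroup G) (N : Subgroup ↥X) :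
    ¬ 3 ∣ Nat.card (↥X ⧸ N) :=
  fun h => hG.three ((h.trans (card_quotient_dvd_card N)).trans (card_subgroup_dvd_card X))

theorem core_quot (X : Subgroup G) :
    Cfsg.pPrimeCore 2 (↥X ⧸ Cfsg.pPrimeCore 2 ↥X) = ⊥ :=
  Thompson.pPrimeCore_quotient_pPrimeCore

variable {S : Sylow 2 G} {A : Subgroup G}

theorem Setup.sq (h : Setup S A) {a : G} (ha : a ∈ A) : a * a = 1 := by
  rw [← pow_two]
  exact h.elem.2 a ha

theorem Setup.isPGroup (h : Setup S A) : IsPGroup 2 ↥A :=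
  fun a => ⟨1, Subtype.ext (by simpa using h.elem.2 a a.2)⟩

/-- A Sylow subgroup containing `A` normalizes it and carries the strong closure. -/
theorem Setup.of_le_sylow (h : Setup S A) (S' : Sylow 2 G) (hA : A ≤ (S' : Subgroup G)) :
    (S' : Subgroup G) ≤ normalizer (A : Set G) ∧ Cfsg.IsStronglyClosed A (S' : Subgroup G) := by
  haveI : Fact (Nat.Prime 2) := ⟨Nat.prime_two⟩
  obtain ⟨d, hd⟩ := MulAction.exists_smul_eq G S' S
  have hmem : ∀ z ∈ (S' : Subgroup G), d * z * d⁻¹ ∈ (S : Subgroup G) := fun z hz => by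
    rw [← hd, Sylow.coe_subgroup_smul]
    exact smul_mem_pointwise_smul z (MulAut.conj d) _ hz
  have hdn : d ∈ normalizer (A : Set G) :=
    ThreePrime24.mem_normalizer_of_conj_le h.ctl.sc fun a ha => hmem a (hA ha)
  refine ⟨fun z hz => ?_, hA, fun a ha g hg => ?_⟩
  · have h1 := mul_mem (mul_mem (inv_mem hdn) (h.ctl.sylow_le (hmem z hz))) hdn
    rwa [show d⁻¹ * (d * z * d⁻¹) * d = z by group] at h1
  · have h1 : d * g * a * (d * g)⁻¹ ∈ (S : Subgroup G) := by
      rw [show d * g * a * (d * g)⁻¹ = d * (g * a * g⁻¹) * d⁻¹ by group]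
      exact hmem _ hg
    have h2 := h.ctl.sc.2 a ha (d * g) h1
    rw [show d * g * a * (d * g)⁻¹ = d * (g * a * g⁻¹) * d⁻¹ by group] at h2
    exact (mem_normalizer_iff.1 hdn _).2 h2

/-- A conjugate of an element of `A` inside a 2-subgroup of the normalizer lies in `A`. -/
theorem Setup.strong (h : Setup S A) {P : Subgroup G} (hP : IsPGroup 2 ↥P)
    (hPA : P ≤ normalizer (A : Set G)) {a g : G} (ha : a ∈ A) (hg : g * a * g⁻¹ ∈ P) :
    g * a * g⁻¹ ∈ A := by
  haveI : Fact (Nat.Prime 2) := ⟨Nat.prime_two⟩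
  obtain ⟨S', hS'⟩ := (hP.to_sup_of_normal_right' h.isPGroup hPA).exists_le_sylow
  exact ((h.of_le_sylow S' (le_sup_right.trans hS')).2).2 a ha g (hS' (mem_sup_left hg))

/-- A Sylow subgroup of `X ≥ A` containing `A` normalizes it. -/
theorem Setup.exists_sylow (h : Setup S A) {X : Subgroup G} (hAX : A ≤ X) :
    ∃ T : Sylow 2 ↥X, A ≤ (T : Subgroup ↥X).map X.subtype ∧
      (T : Subgroup ↥X).map X.subtype ≤ normalizer (A : Set G) := by
  haveI : Fact (Nat.Prime 2) := ⟨Nat.prime_two⟩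
  obtain ⟨T, hT⟩ := (h.isPGroup.of_equiv (subgroupOfEquivOfLe hAX).symm).exists_le_sylow
  have hA : A ≤ (T : Subgroup ↥X).map X.subtype := fun a ha => ⟨⟨a, hAX ha⟩, hT ha, rfl⟩
  obtain ⟨S', hS'⟩ := (T.isPGroup'.map X.subtype).exists_le_sylow
  exact ⟨T, hA, hS'.trans (h.of_le_sylow S' (hA.trans hS')).1⟩

theorem Setup.isPGroup_subgroupOf (h : Setup S A) (X : Subgroup G) :
    IsPGroup 2 ↥(A.subgroupOf X) :=
  h.isPGroup.comap_of_injective X.subtype X.subtype_injective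

/-- The quotient map is injective on 2-subgroups. -/
theorem eq_one_of_quo {X : Subgroup G} {P : Subgroup ↥X} (hP : IsPGroup 2 ↥P) {x : ↥X}
    (hx : x ∈ P) (hq : quo X x = 1) : x = 1 := by
  haveI : Fact (Nat.Prime 2) := ⟨Nat.prime_two⟩
  have h : x ∈ P ⊓ Cfsg.pPrimeCore 2 ↥X := ⟨hx, (QuotientGroup.eq_one_iff x).1 hq⟩
  rwa [Thompson.inf_eq_bot_of_isPGroup_of_coprime hP Thompson.card_pPrimeCore_coprime,
    mem_bot] at h

theorem Setup.eq_one_of_quo (h : Setup S A) {X : Subgroup G} {x : ↥X} (hx : (x : G) ∈ A)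
    (hq : quo X x = 1) : x = 1 :=
  ThreePrime72.eq_one_of_quo (h.isPGroup_subgroupOf X) (mem_subgroupOf.2 hx) hq

theorem Setup.quo_injOn (h : Setup S A) {X : Subgroup G} {x y : ↥X} (hx : (x : G) ∈ A)
    (hy : (y : G) ∈ A) (hq : quo X x = quo X y) : x = y := by
  refine inv_mul_eq_one.1 (h.eq_one_of_quo ?_ ?_)
  · simpa using mul_mem (inv_mem hx) hy
  · rw [map_mul, map_inv, hq, inv_mul_cancel]

theorem Setup.card_img (h : Setup S A) (X : Subgroup G) :
    Nat.card ↥(img X A) = Nat.card ↥(A ⊓ X) := by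
  rw [Nat.card_congr ((subgroupOfEquivOfLe (inf_le_right : A ⊓ X ≤ X)).symm.trans
    (MulEquiv.subgroupCongr (inf_subgroupOf_right A X))).toEquiv]
  refine (Nat.card_congr (Equiv.ofBijective (fun x : ↥(A.subgroupOf X) =>
    (⟨quo X x, ⟨x, x.2, rfl⟩⟩ : ↥(img X A))) ⟨fun x y hxy => Subtype.ext
      (h.quo_injOn x.2 y.2 (congrArg Subtype.val hxy)), ?_⟩)).symm
  rintro ⟨_, x, hx, rfl⟩
  exact ⟨⟨x, hx⟩, rfl⟩

/-- The hypotheses on the quotient by the odd core. -/
theorem Setup.kHyp (hG : Min G) (h : Setup S A) {X : Subgroup G} (hX : X ≠ ⊤) (T : Sylow 2 ↥X)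
    (hTA : (T : Subgroup ↥X).map X.subtype ≤ normalizer (A : Set G))
    (hAT : A ⊓ X ≤ (T : Subgroup ↥X).map X.subtype) :
    KHyp (T.mapSurjective (QuotientGroup.mk'_surjective (Cfsg.pPrimeCore 2 ↥X))) (img X A) := by
  haveI : Fact (Nat.Prime 2) := ⟨Nat.prime_two⟩
  refine ⟨hG.szSections hX _, hG.three_quot X _, core_quot X, ⟨?_, ?_⟩, ?_, ?_⟩
  · refine ⟨⟨?_⟩⟩
    rintro ⟨_, x, hx, rfl⟩ ⟨_, y, hy, rfl⟩
    refine Subtype.ext ?_
    show quo X x * quo X y = quo X y * quo X x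
    rw [← map_mul, ← map_mul]
    exact congrArg _ (Subtype.ext (PN72.elem_comm h.elem hx hy))
  · rintro _ ⟨x, hx, rfl⟩
    rw [← map_pow, show x ^ 2 = 1 from Subtype.ext (h.elem.2 _ hx), map_one]
  · rw [Sylow.coe_mapSurjective]
    exact map_mono fun x hx => by
      obtain ⟨t, ht, hte⟩ := hAT ⟨hx, x.2⟩
      rwa [← Subtype.ext hte]
  · rintro _ ⟨x, hx, rfl⟩ g hg
    obtain ⟨y, rfl⟩ := QuotientGroup.mk'_surjective _ g
    rw [Sylow.coe_mapSurjective] at hg
    obtain ⟨t, ht, hte⟩ := hg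
    set u := y * x * y⁻¹ with hu
    have hqe : quo X t = quo X u := by
      rw [hu, map_mul, map_mul, map_inv]
      exact hte
    have hx2 : x * x = 1 := Subtype.ext (h.sq hx)
    have hu2 : u * u = 1 := by
      rw [hu, show y * x * y⁻¹ * (y * x * y⁻¹) = y * (x * x) * y⁻¹ by group, hx2, mul_one,
        mul_inv_cancel]
    have ht2 : t * t = 1 := ThreePrime72.eq_one_of_quo T.isPGroup' (mul_mem ht ht) (by
      rw [map_mul, hqe, ← map_mul, hu2, map_one])
    have hmem : u * t ∈ Cfsg.pPrimeCore 2 ↥X := (QuotientGroup.eq_one_iff _).1 (by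
      show quo X (u * t) = 1
      rw [map_mul, hqe, ← map_mul, hu2, map_one])
    obtain ⟨m, hm⟩ := exists_conj_of_odd hu2 ht2 ((Nat.coprime_two_right.1
      Thompson.card_pPrimeCore_coprime).of_dvd_nat (orderOf_dvd_natCard _ hmem))
    have hdt : ((u * t) ^ m * y : ↥X) * x * ((u * t) ^ m * y)⁻¹ = t := by
      rw [show (u * t) ^ m * y * x * ((u * t) ^ m * y)⁻¹ = (u * t) ^ m * u * ((u * t) ^ m)⁻¹ by
        rw [hu]; group]
      exact hm
    have hval : (((u * t) ^ m * y : ↥X) : G) * (x : G) * (((u * t) ^ m * y : ↥X) : G)⁻¹ = (t : G) :=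
      congrArg Subtype.val hdt
    have htG : (t : G) ∈ A := by
      have h1 := h.strong (T.isPGroup'.map X.subtype) hTA (a := (x : G)) hx
        (g := (((u * t) ^ m * y : ↥X) : G)) (hval.symm ▸ ⟨t, ht, rfl⟩)
      rwa [hval] at h1
    exact ⟨t, htG, hte⟩

/-- The normalizer of the image comes from the normalizer. -/
theorem Setup.exists_normalizer_lift (h : Setup S A) {X : Subgroup G} {y : ↥X ⧸ Cfsg.pPrimeCore 2 ↥X}
    (hy : y ∈ normalizer (img X A : Set (↥X ⧸ Cfsg.pPrimeCore 2 ↥X))) :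
    ∃ x : ↥X, (x : G) ∈ normalizer ((A ⊓ X : Subgroup G) : Set G) ∧ quo X x = y := by
  haveI : Fact (Nat.Prime 2) := ⟨Nat.prime_two⟩
  rw [← PLocalB.map_normalizer_eq _ _ Thompson.card_pPrimeCore_coprime
    (h.isPGroup_subgroupOf X)] at hy
  obtain ⟨x, hx, rfl⟩ := hy
  refine ⟨x, mem_normalizer_iff.2 fun z => ⟨fun hz => ?_, fun hz => ?_⟩, rfl⟩
  · exact ⟨(mem_normalizer_iff.1 hx ⟨z, (mem_inf.1 hz).2⟩).1 (mem_inf.1 hz).1,
      X.mul_mem (X.mul_mem x.2 (mem_inf.1 hz).2) (X.inv_mem x.2)⟩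
  · have hzX : z ∈ X := by
      have h1 := mul_mem (mul_mem (inv_mem x.2) hz.2) x.2
      rwa [show (x : G)⁻¹ * ((x : G) * z * (x : G)⁻¹) * x = z by group] at h1
    exact ⟨(mem_normalizer_iff.1 hx ⟨z, hzX⟩).2 hz.1, hzX⟩

/-- For `A ≤ X` the lift lies in the normalizer of `A`. -/
theorem Setup.exists_normalizer_lift' (h : Setup S A) {X : Subgroup G} (hAX : A ≤ X)
    {y : ↥X ⧸ Cfsg.pPrimeCore 2 ↥X}
    (hy : y ∈ normalizer (img X A : Set (↥X ⧸ Cfsg.pPrimeCore 2 ↥X))) :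
    ∃ x : ↥X, (x : G) ∈ normalizer (A : Set G) ∧ quo X x = y := by
  have := h.exists_normalizer_lift hy
  rwa [inf_eq_left.2 hAX] at this

omit [Finite G] in
/-- Elements normalizing `A` give normalizing elements of the image. -/
theorem quo_mem_normalizer {X : Subgroup G} {x : ↥X} (hx : (x : G) ∈ normalizer (A : Set G)) :
    quo X x ∈ normalizer (img X A : Set (↥X ⧸ Cfsg.pPrimeCore 2 ↥X)) :=
  le_normalizer_map (quo X) ⟨x, mem_normalizer_iff.2 fun z => mem_normalizer_iff.1 hx z, rfl⟩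

/-- The centralizer of the image of `B ≤ A` comes from the centralizer. -/
theorem Setup.exists_centralizer_lift (h : Setup S A) {X B : Subgroup G} (hBA : B ≤ A)
    (hBX : B ≤ X) {y : ↥X ⧸ Cfsg.pPrimeCore 2 ↥X}
    (hy : y ∈ centralizer (img X B : Set (↥X ⧸ Cfsg.pPrimeCore 2 ↥X))) :
    ∃ x : ↥X, (x : G) ∈ centralizer (B : Set G) ∧ quo X x = y := by
  haveI : Fact (Nat.Prime 2) := ⟨Nat.prime_two⟩
  have hP : IsPGroup 2 ↥(B.subgroupOf X) :=
    (h.isPGroup.to_le hBA).comap_of_injective X.subtype X.subtype_injective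
  rw [← PLocalB.map_centralizer_eq _ _ Thompson.card_pPrimeCore_coprime hP] at hy
  obtain ⟨x, hx, rfl⟩ := hy
  exact ⟨x, mem_centralizer_iff.2 fun b hb =>
    congrArg Subtype.val (mem_centralizer_iff.1 hx ⟨b, hBX hb⟩ hb), rfl⟩

variable {M : Subgroup G}

/-- `O(X)` lies in `M` when `X` meets `A` in a noncyclic subgroup. -/
theorem Big.oddOf_le (hM : Big S A M) {X : Subgroup G} (h4 : 4 ≤ Nat.card ↥(A ⊓ X)) :
    oddOf X ≤ M := by
  haveI := hM.elem.1
  refine PN72.le_of_gen (E := A ⊓ X)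
    ⟨⟨⟨fun a b => Subtype.ext (PN72.elem_comm hM.elem a.2.1 b.2.1)⟩⟩,
      fun a ha => hM.elem.2 a ha.1⟩ (by omega) (inf_le_right.trans (le_normalizer_oddOf X)) ?_
    fun b hb hb1 => inf_le_right.trans (hM.cle b hb.1 hb1)
  rw [card_map_of_injective X.subtype_injective]
  exact Thompson.not_dvd_card_pPrimeCore (hp := ⟨Nat.prime_two⟩)

end Cfsg.Agent.ThreePrime72
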